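import Cfsg.Agent.CosetCert.Pack

/-! Generated: the facts of the log. -/

namespace Cfsg.Agent.CosetCert.HeCollapse

def factStore : Store := (.leaf 0x20000000000000000000000070000000001000000100001070000800001000000800008020000800008010000000000070000000002020000200009070000a00009030000a0000a060000a0000a050000a0000a040000900009030000800008040000200002030000200002030000100001020000000001070000300001030000300003060000300003060000200002060000000000030000000000070000000004050000300003050000200002060000400000050000000000050000400004070000000006030000600004070000700004040000000000070000500000050000400007030000700006060000600004020000a00002000000900002010000800001060000700000050000600000040000500000030000400000020000300000010000200000000000100000)

end Cfsg.Agent.CosetCert.HeCollapse
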