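import Cfsg.Agent.CosetCert.Pack

/-! Generated: the justifications. -/

namespace Cfsg.Agent.CosetCert.HeCollapse

def justStore : Store := (.leaf 0x1780003d02000d00000bc00000010000000005c00000008000000006d8000b00002d01800000000f8000b2000070000000002a800002000078000b2100002000035c0004500015c0004500015c0004500015c0004500015c000440a001e00008e0000f4000550000f00000f00050800008a400001010003800004000002000140000100000080003c000000000030001400004602081d000099e0000901000680004cc0004d0000480004100004c0004d0000480004100004c0004d0000402804780000a48000960004400001520000d4000130003110000a900005600009800188000054000043000044000c100002780003f00003c000c2400022b0000d40002b0000d41000700000ab0000d40008800000bb0000e00003a03001200001ec0000402000d00001a0001c8000080001880000a0001c8000080001880000a0001c80000014023c00001680006e00044000007000033000014000c440000e0000cc0000300030c00002b80002802001b00000b800006020012000009c0000600009c00007000094000060105140000080001380000a0006200000700004e0000180018580001440000a01000d80000440000501000c800007c0001902001900004800000602001200006f80002c04002400009a0000300001a0000b0000280000300828a800006c0000802001600000b000050000180000300000905001c00000e0000600809000000500001a0004400000f80000b02002000004010c9010c9010c9010c9010c9010c9010c9010c9010c9010c9010c9010c9010c9010c9010c9010800103700fee00f8f00ec500dcc00d4400cfb00c0400bbb00aae00a6500a08009ab0094e008f20087e00836007d800790006850063d005e20058800540004f800458003fd003a30035b00313002cc002840023d0019f00158000d00008b000450000000000000000000000000000000000000000000000000000000)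

end Cfsg.Agent.CosetCert.HeCollapse
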